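import Cfsg.Agent.GH.GL4Seven
import Cfsg.Agent.SmallSimple.Sieve
import Cfsg.Agent.S0494
import Cfsg.Agent.S0497
import Cfsg.Agent.S0984
import Cfsg.Agent.S0495
import Cfsg.Agent.S0255
import Cfsg.Agent.S0088
import Cfsg.Agent.S0264
import Cfsg.Agent.S0256
import Cfsg.Agent.Lib.ElemAbGL
import Cfsg.Agent.Lib.SolvableMinNormal
set_option linter.all false

/-!
# Perfect subgroups of `GL₄(2)` without normal 2-subgroups (helper5)

* `simple_card`: a nontrivial perfect group `Y` acting faithfully on an elementary abelian group of order at most 16, with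
  `O_2(Y) = 1`, is simple of order 60, 168, 360, 2520 or 20160;
* `iso`: it is isomorphic to `A₅`, `L₃(2)`, `A₆`, `A₇` or `A₈`.
-/

set_option autoImplicit false
set_option linter.unusedSectionVars false

namespace Cfsg.Agent.H5.PerfGL4

open Subgroup Cfsg.Agent.GH.C2Act
open scoped commutatorElement

variable {Y V : Type*} [Group Y] [Group V] [Finite Y] [Finite V] {φ : Y →* MulAut V}

omit [Finite Y] in
theorem not_solvable_of_perfect [Nontrivial Y] (hp : ⁅(⊤ : Subgroup Y), (⊤ : Subgroup Y)⁆ = ⊤) :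
    ¬ Group.IsSolvable Y := by
  intro h
  have h1 : ∀ n, derivedSeries Y n = ⊤ := by
    intro n
    induction n with
    | zero => rfl
    | succ n ih => rw [derivedSeries_succ, ih, hp]
  obtain ⟨n, hn⟩ := h.solvable
  rw [h1 n] at hn
  exact top_ne_bot hn

/-- the full automorphism group of an elementary abelian group of order 16 -/
theorem mulAut_equiv (hV2 : ∀ v : V, v * v = 1) (hV : Nat.card V = 16) :
    Nonempty (MulAut V ≃* Matrix.GeneralLinearGroup (Fin 4) (ZMod 2)) := by
  let _ : CommGroup V := { ‹Group V› with mul_comm := GH.GL4Seven.comm hV2 }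
  exact Lib.ElemAbGL.mulAut_equiv_GL 2 4 (fun x => by rw [pow_two]; exact hV2 x) (by rw [hV]; norm_num)

theorem mulAut_perfect (hV2 : ∀ v : V, v * v = 1) (hV : Nat.card V = 16) : commutator (MulAut V) = ⊤ := by
  obtain ⟨e⟩ := mulAut_equiv hV2 hV
  have h1 : commutator (Matrix.GeneralLinearGroup (Fin 4) (ZMod 2)) = ⊤ := by
    rw [S0264.result 4 (by norm_num), eq_top_iff]
    intro x _
    rw [MonoidHom.mem_ker]
    have : ∀ u : (ZMod 2)ˣ, u = 1 := by decide
    exact this _
  have h2 := congrArg (Subgroup.map e.symm.toMonoidHom) h1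
  rw [commutator_def, Subgroup.map_commutator] at h2
  have h3 : (⊤ : Subgroup (Matrix.GeneralLinearGroup (Fin 4) (ZMod 2))).map e.symm.toMonoidHom = ⊤ :=
    Subgroup.map_top_of_surjective _ e.symm.surjective
  rw [h3] at h2
  rw [commutator_def]
  exact h2

theorem card_mulAut16 (hV2 : ∀ v : V, v * v = 1) (hV : Nat.card V = 16) : Nat.card (MulAut V) = 20160 := by
  rw [GH.GL4Seven.card_mulAut hV2 (n := 4) (by rw [hV]; norm_num)]
  decide

/-- index 2 or 3 subgroups do not occur in `GL₄(2)` (for simple subgroups) -/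
theorem not_index_three (hV2 : ∀ v : V, v * v = 1) (hV : Nat.card V = 16)
    [IsSimpleGroup Y] (h1 : φ.range.index ≤ 3) (h6 : 6 < Nat.card Y) : φ.range = ⊤ := by
  classical
  have hfin : Finite (MulAut V) := inferInstance
  -- the action of `Y` on the cosets is trivial
  have hQ : Nat.card (MulAut V ⧸ φ.range) ≤ 3 := h1
  let ρ : MulAut V →* Equiv.Perm (MulAut V ⧸ φ.range) := MulAction.toPermHom _ _
  have hker : (ρ.comp φ).ker = ⊤ := by
    rcases (inferInstance : (ρ.comp φ).ker.Normal).eq_bot_or_eq_top with h | h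
    · exfalso
      have hinj : Function.Injective (ρ.comp φ) := (MonoidHom.ker_eq_bot_iff _).1 h
      have h2 := Nat.card_le_card_of_injective _ hinj
      rw [Nat.card_perm] at h2
      have h3 : (Nat.card (MulAut V ⧸ φ.range)).factorial ≤ Nat.factorial 3 := Nat.factorial_le hQ
      have : Nat.factorial 3 = 6 := rfl
      omega
    · exact h
  have htriv : ∀ (y : Y) (q : MulAut V ⧸ φ.range), φ y • q = q := by
    intro y q
    have h2 : y ∈ (ρ.comp φ).ker := by rw [hker]; exact mem_top y
    have h3 : ρ (φ y) = 1 := h2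
    have h4 := congrArg (fun f : Equiv.Perm _ => f q) h3
    exact h4
  have hn : φ.range.Normal := by
    constructor
    rintro _ ⟨y, rfl⟩ g
    have h2 := htriv y (QuotientGroup.mk g⁻¹)
    have h3 : (QuotientGroup.mk (φ y * g⁻¹) : MulAut V ⧸ φ.range) = QuotientGroup.mk g⁻¹ := h2
    rw [QuotientGroup.eq] at h3
    have h4 := inv_mem h3
    have e : ((φ y * g⁻¹)⁻¹ * g⁻¹)⁻¹ = g * φ y * g⁻¹ := by group
    rwa [e] at h4
  -- the quotient is abelian
  have hab : IsMulCommutative (MulAut V ⧸ φ.range) := by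
    have h5 : Nat.card (MulAut V ⧸ φ.range) = 1 ∨ Nat.card (MulAut V ⧸ φ.range) = 2 ∨
        Nat.card (MulAut V ⧸ φ.range) = 3 := by
      have : 0 < Nat.card (MulAut V ⧸ φ.range) := Nat.card_pos
      omega
    rcases h5 with h5 | h5 | h5
    · have : Subsingleton (MulAut V ⧸ φ.range) := (Nat.card_eq_one_iff_unique.1 h5).1
      exact ⟨⟨fun a b => Subsingleton.elim _ _⟩⟩
    · have : Fact (Nat.Prime 2) := ⟨Nat.prime_two⟩
      have := isCyclic_of_prime_card (α := MulAut V ⧸ φ.range) (p := 2) h5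
      infer_instance
    · have : Fact (Nat.Prime 3) := ⟨Nat.prime_three⟩
      have := isCyclic_of_prime_card (α := MulAut V ⧸ φ.range) (p := 3) h5
      infer_instance
  have h6 : commutator (MulAut V) ≤ φ.range := by
    rw [commutator_def, Subgroup.commutator_le]
    intro a _ b _
    rw [← QuotientGroup.eq_one_iff, commutatorElement_def]
    have h7 : (QuotientGroup.mk (a * b * a⁻¹ * b⁻¹) : MulAut V ⧸ φ.range) =
        QuotientGroup.mk a * QuotientGroup.mk b * (QuotientGroup.mk a)⁻¹ * (QuotientGroup.mk b)⁻¹ := rfl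
    rw [h7, hab.is_comm.comm (QuotientGroup.mk a) (QuotientGroup.mk b)]
    group
  rw [mulAut_perfect hV2 hV] at h6
  exact top_le_iff.1 h6

theorem card_dvd' (hφ : Function.Injective φ) (hV2 : ∀ v : V, v * v = 1) (hV : Nat.card V = 16) :
    Nat.card Y ∣ 20160 := by
  have h1 := Subgroup.card_subgroup_dvd_card φ.range
  rw [card_mulAut16 hV2 hV, ← Nat.card_congr (MonoidHom.ofInjective hφ).toEquiv] at h1
  exact h1

/-- a perfect group has no nontrivial central subgroup of order 3 if its Sylow 3-subgroups have order at most 9 -/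
theorem no_central_three (hp : ⁅(⊤ : Subgroup Y), (⊤ : Subgroup Y)⁆ = ⊤) (h27 : ¬ 27 ∣ Nat.card Y) {M : Subgroup Y}
    (hM : Nat.card M = 3) (hMc : M ≤ center Y) : False := by
  have : Fact (Nat.Prime 3) := ⟨Nat.prime_three⟩
  have hMp : IsPGroup 3 M := IsPGroup.of_card (n := 1) (by rw [hM]; norm_num)
  obtain ⟨P, hP⟩ := hMp.exists_le_sylow
  have hPc : Nat.card P ∣ 9 := by
    obtain ⟨n, hn⟩ := IsPGroup.iff_card.1 P.isPGroup'
    have h1 : Nat.card P ∣ Nat.card Y := Subgroup.card_subgroup_dvd_card _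
    have hn' : Nat.card P = 3 ^ n := hn
    rw [hn'] at h1 ⊢
    have h2 : n ≤ 2 := by
      by_contra h
      exact h27 ((pow_dvd_pow 3 (by omega : 3 ≤ n)).trans h1)
    exact pow_dvd_pow 3 h2
  have hab : IsMulCommutative P := by
    obtain ⟨n, hn, hn'⟩ := (Nat.dvd_prime_pow Nat.prime_three (m := 2)).1 (by simpa using hPc)
    have hn'' : n = 0 ∨ n = 1 ∨ n = 2 := by omega
    rcases hn'' with rfl | rfl | rfl
    · have : Subsingleton P := (Nat.card_eq_one_iff_unique.1 (by simpa using hn')).1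
      exact ⟨⟨fun a b => Subsingleton.elim _ _⟩⟩
    · have := isCyclic_of_prime_card (α := P) (p := 3) (by simpa using hn')
      infer_instance
    · exact IsPGroup.isMulCommutative_of_card_eq_prime_sq (p := 3) hn'
  have h1 := S0088.result (P : Subgroup Y) hab (by
    obtain ⟨n, hn⟩ := IsPGroup.iff_card.1 P.isPGroup'
    have hn' : Nat.card (P : Subgroup Y) = 3 ^ n := hn
    rw [hn']
    exact Nat.Coprime.pow_left n ((Nat.Prime.coprime_iff_not_dvd Nat.prime_three).2 P.not_dvd_index))
  have h2 : M ≤ (P : Subgroup Y) ⊓ commutator Y ⊓ center Y := by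
    refine le_inf (le_inf hP ?_) hMc
    rw [_root_.commutator_def, hp]; exact le_top
  rw [h1, le_bot_iff] at h2
  rw [h2, Subgroup.card_bot] at hM
  omega

theorem five_simple (hφ : Function.Injective φ) (hV2 : ∀ v : V, v * v = 1) (hV : Nat.card V ≤ 16) [Nontrivial Y]
    (hp : ⁅(⊤ : Subgroup Y), (⊤ : Subgroup Y)⁆ = ⊤) (h5 : 5 ∣ Nat.card Y)
    (hN : ∀ N : Subgroup Y, N.Normal → IsPGroup 2 N → N = ⊥) : IsSimpleGroup Y := by
  have hp5 : Fact (Nat.Prime 5) := ⟨Nat.prime_five⟩
  have hsol : ¬ Group.IsSolvable Y := not_solvable_of_perfect hp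
  obtain ⟨x, hx⟩ := exists_prime_orderOf_dvd_card' 5 h5
  have hx5 : x ^ 5 = 1 := by rw [← hx]; exact pow_orderOf_eq_one x
  have hx1 : x ≠ 1 := by
    rintro rfl
    rw [orderOf_one] at hx; omega
  have hV16 : Nat.card V = 16 := (fix_one hφ hV2 hV hx5 hx1).1
  have hd : Nat.card Y ∣ 20160 := card_dvd hφ hV2 hV
  refine ⟨fun N hNn => ?_⟩
  by_cases h : 5 ∣ Nat.card N
  · right
    have hxN : x ∈ N := mem_of_dvd hφ hV2 hV hx5 hNn h
    obtain ⟨P, hP⟩ := zpowers_sylow hφ hV2 hV hx5 hx1
    have h1 : normalizer ((P : Subgroup Y) : Set Y) ⊔ N = ⊤ := Sylow.normalizer_sup_eq_top' P (by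
      rw [hP, Subgroup.zpowers_le]
      exact hxN)
    rw [hP] at h1
    have hNs := solvable_norm hφ hV2 hV hx5 hx1
    set M := normalizer ((zpowers x : Subgroup Y) : Set Y) with hM
    let f : M →* Y ⧸ N := (QuotientGroup.mk' N).comp M.subtype
    have hf : Function.Surjective f := by
      intro y
      obtain ⟨y, rfl⟩ := QuotientGroup.mk'_surjective N y
      have h2 : y ∈ M ⊔ N := by rw [h1]; exact mem_top y
      obtain ⟨n, hn, k, hk, rfl⟩ := (Subgroup.mem_sup_of_normal_right).mp h2
      refine ⟨⟨n, hn⟩, ?_⟩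
      show QuotientGroup.mk' N n = QuotientGroup.mk' N (n * k)
      rw [map_mul]
      have h3 : QuotientGroup.mk' N k = 1 := by
        rw [QuotientGroup.mk'_apply, QuotientGroup.eq_one_iff]; exact hk
      rw [h3, mul_one]
    have h4 : Group.IsSolvable (Y ⧸ N) := Group.isSolvable_of_surjective hf
    by_contra hne
    have h5 : Nontrivial (Y ⧸ N) := by
      rw [← not_subsingleton_iff_nontrivial]
      intro hs
      apply hne
      rw [eq_top_iff]
      intro y _
      rw [← QuotientGroup.eq_one_iff]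
      exact Subsingleton.elim _ _
    refine not_solvable_of_perfect (Y := Y ⧸ N) ?_ h4
    have h6 := congrArg (Subgroup.map (QuotientGroup.mk' N)) hp
    rw [Subgroup.map_commutator] at h6
    rwa [Subgroup.map_top_of_surjective _ (QuotientGroup.mk'_surjective N)] at h6
  · left
    by_contra hne
    have hNs : Group.IsSolvable N := solvable_of_not_dvd hφ hV2 hV h5 hNn h
    have hnt : Nontrivial N := (Subgroup.nontrivial_iff_ne_bot N).2 hne
    obtain ⟨p, hpp, M₀, hM₀c, -, hM₀p, hM₀n⟩ := Lib.SolvableMinNormal.exists_characteristic_pgroup (G := N)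
    have hpf : Fact p.Prime := ⟨hpp⟩
    set M : Subgroup Y := M₀.map N.subtype with hM
    have hMn : M.Normal := by
      have := hM₀c
      exact inferInstance
    have hMp : IsPGroup p M := hM₀p.map _
    have hMN : M ≤ N := map_subtype_le _
    have hM1 : M ≠ ⊥ := by
      intro h1
      exact hM₀n ((Subgroup.map_eq_bot_iff_of_injective _ N.subtype_injective).1 h1)
    obtain ⟨n, hn⟩ := IsPGroup.iff_card.1 hMp
    have hn0 : n ≠ 0 := by
      rintro rfl
      apply hM1
      rw [pow_zero] at hn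
      exact Subgroup.card_eq_one.1 hn
    have hpM : p ∣ Nat.card M := by rw [hn]; exact dvd_pow_self p hn0
    have hMd : Nat.card M ∣ 20160 := (Subgroup.card_subgroup_dvd_card M).trans hd
    have hp20 : p ∣ 20160 := hpM.trans hMd
    have hp2 : p ≠ 2 := by
      rintro rfl
      exact hM1 (hN M hMn hMp)
    have hp5' : p ≠ 5 := by
      rintro rfl
      exact h (hpM.trans (Subgroup.card_dvd_of_le hMN))
    have hp37 : p = 3 ∨ p = 7 := by
      have h1 : p ∣ 2 ^ 6 * (3 ^ 2 * (5 * 7)) := by norm_num; exact hp20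
      rcases (Nat.Prime.dvd_mul hpp).1 h1 with h1 | h1
      · exact absurd ((Nat.prime_dvd_prime_iff_eq hpp Nat.prime_two).1 (hpp.dvd_of_dvd_pow h1)) hp2
      · rcases (Nat.Prime.dvd_mul hpp).1 h1 with h1 | h1
        · exact Or.inl ((Nat.prime_dvd_prime_iff_eq hpp Nat.prime_three).1 (hpp.dvd_of_dvd_pow h1))
        · rcases (Nat.Prime.dvd_mul hpp).1 h1 with h1 | h1
          · exact absurd ((Nat.prime_dvd_prime_iff_eq hpp Nat.prime_five).1 h1) hp5'
          · exact Or.inr ((Nat.prime_dvd_prime_iff_eq hpp (by norm_num)).1 h1)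
    have hmod := card_conj_modEq hx5 (P := M) (fun p hp => hMn.conj_mem p hp x)
    set D := M ⊓ centralizer ({x} : Set Y) with hD
    have hD15 : Nat.card D ∣ 15 := (Subgroup.card_dvd_of_le inf_le_right).trans (card_cent hφ hV2 hV hx5 hx1)
    have hDM : Nat.card D ∣ Nat.card M := Subgroup.card_dvd_of_le inf_le_left
    rcases hp37 with rfl | rfl
    · -- `p = 3`
      have hn2 : n ≤ 2 := by
        by_contra h1
        have h2 : 3 ^ 3 ∣ 20160 := (pow_dvd_pow 3 (by omega : 3 ≤ n)).trans (hn ▸ hMd)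
        revert h2; norm_num
      have hn12 : n = 1 ∨ n = 2 := by omega
      have hD3 : Nat.card D = 1 ∨ Nat.card D = 3 := by
        have h1 : Nat.card D ∣ Nat.gcd 15 9 := Nat.dvd_gcd hD15 (hDM.trans (by
          rw [hn]; exact pow_dvd_pow 3 hn2))
        exact (Nat.dvd_prime Nat.prime_three).1 h1
      rcases hn12 with rfl | rfl
      · -- central
        rw [pow_one] at hn
        have hMc : M ≤ center Y := by
          have h1 : commutator Y ≤ centralizer (M : Set Y) := by
            have hcyc : IsCyclic M := isCyclic_of_prime_card (p := 3) hn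
            have hcomm : ∀ a b : MulAut M, a * b = b * a := by
              intro a b
              apply (IsCyclic.mulAutMulEquiv M).injective
              rw [map_mul, map_mul, mul_comm]
            rw [_root_.commutator_def, Subgroup.commutator_le]
            intro a _ b _
            rw [mem_centralizer_iff]
            intro m hm
            have h2 : (MulAut.conjNormal (H := M) ⁅a, b⁆) = 1 := by
              rw [map_commutatorElement, commutatorElement_def, hcomm (MulAut.conjNormal a) (MulAut.conjNormal b)]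
              group
            have h3 := congrArg (fun f : MulAut M => ((f ⟨m, hm⟩ : M) : Y)) h2
            change ((MulAut.conjNormal ⁅a, b⁆ ⟨m, hm⟩ : M) : Y) = m at h3
            rw [MulAut.conjNormal_apply] at h3
            exact (mul_inv_eq_iff_eq_mul.1 h3).symm
          rw [_root_.commutator_def, hp] at h1
          intro m hm
          rw [mem_center_iff]
          intro g
          exact (mem_centralizer_iff.1 (h1 (mem_top g)) m hm).symm
        refine no_central_three hp ?_ hn hMc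
        intro h1
        have := h1.trans hd
        revert this; norm_num
      · rw [hn] at hmod
        rcases hD3 with h1 | h1 <;> rw [h1] at hmod <;> revert hmod <;> decide
    · have hn1 : n = 1 := by
        have h1 : n < 2 := by
          by_contra h1
          have h2 : 7 ^ 2 ∣ 20160 := (pow_dvd_pow 7 (by omega : 2 ≤ n)).trans (hn ▸ hMd)
          revert h2; norm_num
        omega
      subst hn1
      rw [pow_one] at hn
      have h1 : Nat.card D ∣ Nat.gcd 15 7 := Nat.dvd_gcd hD15 (hDM.trans (by rw [hn]))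
      have h2 : Nat.card D = 1 := Nat.dvd_one.1 h1
      rw [hn, h2] at hmod
      revert hmod; decide

/-- the orders dividing 2520 and divisible by 5 -/
theorem survive : ∀ n < 2521, 2520 % n = 0 → n % 5 = 0 → n = 60 ∨ n = 360 ∨ n = 2520 ∨
    SmallSimple.Sieve.autoDead n = true := by
  decide +kernel

/-- **Perfect subgroups of `GL₄(2)` without normal 2-subgroups, of order not divisible by 16.** -/
theorem simple_card (hφ : Function.Injective φ) (hV2 : ∀ v : V, v * v = 1) (hV : Nat.card V ≤ 16) [Nontrivial Y]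
    (hp : ⁅(⊤ : Subgroup Y), (⊤ : Subgroup Y)⁆ = ⊤) (h16 : ¬ 16 ∣ Nat.card Y)
    (hN : ∀ N : Subgroup Y, N.Normal → IsPGroup 2 N → N = ⊥) :
    IsSimpleGroup Y ∧ (Nat.card Y = 60 ∨ Nat.card Y = 168 ∨ Nat.card Y = 360 ∨ Nat.card Y = 2520) := by
  have hsol : ¬ Group.IsSolvable Y := not_solvable_of_perfect hp
  by_cases h5 : 5 ∣ Nat.card Y
  · have hs : IsSimpleGroup Y := five_simple hφ hV2 hV hp h5 hN
    refine ⟨hs, ?_⟩
    have hd : Nat.card Y ∣ 20160 := card_dvd hφ hV2 hV
    have hd2 : Nat.card Y ∣ 2520 := by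
      have h1 : Nat.card Y ∣ 2 ^ 6 * 315 := by norm_num; exact hd
      obtain ⟨a, b, ha, hb, hab⟩ := exists_dvd_and_dvd_of_dvd_mul h1
      obtain ⟨i, -, rfl⟩ := (Nat.dvd_prime_pow Nat.prime_two).1 ha
      have hi : i ≤ 3 := by
        by_contra h
        apply h16
        rw [hab]
        exact (pow_dvd_pow 2 (by omega : 4 ≤ i)).trans (dvd_mul_right _ _)
      rw [hab, show 2520 = 2 ^ 3 * 315 by norm_num]
      exact mul_dvd_mul (pow_dvd_pow 2 hi) hb
    have hlt : Nat.card Y < 2521 := Nat.lt_succ_of_le (Nat.le_of_dvd (by norm_num) hd2)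
    have hG : ¬ IsMulCommutative Y := fun h => hsol (Group.isSolvable_of_comm h.is_comm.comm)
    rcases survive _ hlt (Nat.mod_eq_zero_of_dvd hd2) (Nat.mod_eq_zero_of_dvd h5) with h | h | h | h
    · exact Or.inl h
    · exact Or.inr (Or.inr (Or.inl h))
    · exact Or.inr (Or.inr (Or.inr h))
    · exact absurd (SmallSimple.Sieve.autoDead_sound hG (by omega) h) id
  · obtain ⟨h1, h2⟩ := GH.GL4Seven.card_and_simple hφ hV2 hV hsol h5 hN
    exact ⟨h2, Or.inr (Or.inl h1)⟩

/-- a simple group of order 168 is `L₃(2)` -/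
theorem psl_of_card {Y : Type*} [Group Y] [Finite Y] [IsSimpleGroup Y] (h : Nat.card Y = 168) {F : Type*} [Field F]
    [Fintype F] (hF : Fintype.card F = 2) : Nonempty (Y ≃* Matrix.ProjectiveSpecialLinearGroup (Fin 3) F) := by
  have : Fact (Nat.Prime 7) := ⟨by norm_num⟩
  obtain ⟨e⟩ := S0495.result h (F := ZMod 7) (by simp [ZMod.card])
  obtain ⟨f⟩ := S0255.result (F := ZMod 7) (K := F) (by simp [ZMod.card]) hF
  exact ⟨e.trans f⟩

/-- **The isomorphism types.** -/
theorem iso (hφ : Function.Injective φ) (hV2 : ∀ v : V, v * v = 1) (hV : Nat.card V ≤ 16) [Nontrivial Y]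
    (hp : ⁅(⊤ : Subgroup Y), (⊤ : Subgroup Y)⁆ = ⊤) (h16 : ¬ 16 ∣ Nat.card Y)
    (hN : ∀ N : Subgroup Y, N.Normal → IsPGroup 2 N → N = ⊥) :
    (Nat.card Y = 60 ∧ Nonempty (Y ≃* alternatingGroup (Fin 5))) ∨
    (Nat.card Y = 168 ∧ Nonempty (Y ≃* Matrix.ProjectiveSpecialLinearGroup (Fin 3) (ZMod 2))) ∨
    (Nat.card Y = 360 ∧ Nonempty (Y ≃* alternatingGroup (Fin 6))) ∨
    (Nat.card Y = 2520 ∧ Nonempty (Y ≃* alternatingGroup (Fin 7))) := by
  obtain ⟨h1, h2⟩ := simple_card hφ hV2 hV hp h16 hN
  rcases h2 with h2 | h2 | h2 | h2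
  · exact Or.inl ⟨h2, S0494.result h2⟩
  · exact Or.inr (Or.inl ⟨h2, psl_of_card h2 (by simp [ZMod.card])⟩)
  · exact Or.inr (Or.inr (Or.inl ⟨h2, S0497.result h2⟩))
  · exact Or.inr (Or.inr (Or.inr ⟨h2, S0984.result h2⟩))

end Cfsg.Agent.H5.PerfGL4
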